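import Mathlib.RingTheory.MvPowerSeries.Derivative
import Mathlib.LinearAlgebra.Matrix.NonsingularInverse
import Groth.Prelude.Def_QuadSing
import Groth.Agent.Lib.QuadSeries.Basic

/-!
# Quadratic parts of power series are determined by the quotient algebra up to congruence
-/

set_option autoImplicit false
set_option linter.all false
set_option backward.isDefEq.respectTransparency false

universe u

open IsLocalRing MvPowerSeries

namespace GrothLib.JacQuad10

variable {k : Type u} [Field k] {N : ℕ}

local notation "P" => MvPowerSeries (Fin N) k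

/-- Linear coefficient. -/
noncomputable def lc (j : Fin N) (f : P) : k := coeff (Finsupp.single j 1) f

theorem lc_add (j : Fin N) (f g : P) : lc j (f + g) = lc j f + lc j g := map_add _ f g

theorem lc_sub (j : Fin N) (f g : P) : lc j (f - g) = lc j f - lc j g := map_sub _ f g

theorem lc_sum {ι : Type*} (s : Finset ι) (j : Fin N) (f : ι → P) : lc j (∑ x ∈ s, f x) = ∑ x ∈ s, lc j (f x) :=
  map_sum _ f s

theorem lc_mul (j : Fin N) (f g : P) :
    lc j (f * g) = constantCoeff f * lc j g + lc j f * constantCoeff g := by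
  classical
  simp only [lc, MvPowerSeries.coeff_mul, Finsupp.antidiagonal_single, ← coeff_zero_eq_constantCoeff]
  rw [show Finset.antidiagonal 1 = {((0 : ℕ), 1), (1, 0)} from rfl]
  simp

theorem lc_X (j p : Fin N) : lc j (X p : P) = if j = p then 1 else 0 := by
  classical
  simp [lc, coeff_X, Finsupp.single_left_inj]

theorem lc_C (j : Fin N) (r : k) : lc j (C r : P) = 0 := by
  classical
  simp [lc, coeff_C]

theorem cc_pderiv (i : Fin N) (f : P) : constantCoeff (pderiv k i f) = lc i f :=
  GrothLib.QuadSeries.constantCoeff_pderiv f i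

/-- The polar form of the quadratic part. -/
noncomputable def pol (f : P) : Matrix (Fin N) (Fin N) k := fun i j => lc j (pderiv k i f)

theorem pol_eq_polarMatrix (f : P) : pol f = VanCyc.polarMatrix (VanCyc.quadPart f) := by
  classical
  funext i j
  rw [pol, lc, GrothLib.QuadSeries.coeff_single_pderiv]
  simp only [VanCyc.polarMatrix, VanCyc.quadPart]
  rcases lt_trichotomy i j with h | h | h
  · simp [h, h.ne, h.ne', add_comm (Finsupp.single j 1)]
  · subst h
    simp [← Finsupp.single_add, mul_comm]
  · simp [h, h.ne, h.ne', not_lt.2 h.le]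

/-- `f` has no constant or linear term. -/
def Low (f : P) : Prop := constantCoeff f = 0 ∧ ∀ j, lc j f = 0

theorem Low.mem {f : P} (h : Low f) : f ∈ maximalIdeal P ^ 2 := by
  have h1 := GrothLib.QuadSeries.sub_linear_mem_sq h.1
  have h2 : ∀ j, coeff (Finsupp.single j 1) f = 0 := h.2
  simpa [h2] using h1

theorem low_of_mem {f : P} (h : f ∈ maximalIdeal P ^ 2) : Low f := by
  rw [sq] at h
  refine Submodule.mul_induction_on h (fun a ha b hb => ?_) fun a b ha hb => ?_
  · rw [GrothLib.QuadSeries.mem_max] at ha hb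
    exact ⟨by rw [map_mul, ha, zero_mul], fun j => by rw [lc_mul, ha, hb, zero_mul, mul_zero, add_zero]⟩
  · exact ⟨by rw [map_add, ha.1, hb.1, add_zero], fun j => by rw [lc_add, ha.2 j, hb.2 j, add_zero]⟩

theorem pol_sum {ι : Type*} (s : Finset ι) (f : ι → P) (i j : Fin N) :
    pol (∑ x ∈ s, f x) i j = ∑ x ∈ s, pol (f x) i j := by
  simp only [pol, map_sum, lc_sum]

theorem pol_mul_low (v : P) {f : P} (hf : Low f) (i j : Fin N) :
    pol (v * f) i j = constantCoeff v * pol f i j := by
  simp only [pol, Derivation.leibniz, smul_eq_mul, lc_add, lc_mul, cc_pderiv, hf.1, hf.2]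
  ring

theorem pol_mul {u v : P} (hu : constantCoeff u = 0) (hv : constantCoeff v = 0) (i j : Fin N) :
    pol (u * v) i j = lc i u * lc j v + lc i v * lc j u := by
  simp only [pol, Derivation.leibniz, smul_eq_mul, lc_add, lc_mul, cc_pderiv, hu, hv]
  ring

theorem low_mul {u v : P} (hu : constantCoeff u = 0) (hv : constantCoeff v = 0) : Low (u * v) :=
  low_of_mem (by
    rw [sq]
    exact Ideal.mul_mem_mul (GrothLib.QuadSeries.mem_max.2 hu) (GrothLib.QuadSeries.mem_max.2 hv))

theorem exists_two_table {g : P} (hg : Low g) :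
    ∃ u : Fin N → Fin N → P, g = ∑ p, ∑ q, u p q * (X p * X q) := by
  classical
  have h := hg.mem
  rw [sq, GrothLib.QuadSeries.maximalIdeal_eq] at h
  rw [Ideal.span_mul_span'] at h
  have h' : g ∈ Ideal.span (Set.range fun z : Fin N × Fin N => (X z.1 * X z.2 : P)) := by
    refine Ideal.span_mono ?_ h
    rintro _ ⟨_, ⟨p, rfl⟩, _, ⟨q, rfl⟩, rfl⟩
    exact ⟨(p, q), rfl⟩
  obtain ⟨c, hc⟩ := Ideal.mem_span_range_iff_exists_fun.1 h'
  refine ⟨fun p q => c (p, q), ?_⟩
  rw [← hc, Fintype.sum_prod_type]

theorem pol_table (u : Fin N → Fin N → P) (h : Fin N → P) (hh : ∀ p, constantCoeff (h p) = 0)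
    (i j : Fin N) :
    pol (∑ p, ∑ q, u p q * (h p * h q)) i j =
      ∑ p, ∑ q, constantCoeff (u p q) * (lc i (h p) * lc j (h q) + lc i (h q) * lc j (h p)) := by
  simp only [pol_sum]
  refine Finset.sum_congr rfl fun p _ => Finset.sum_congr rfl fun q _ => ?_
  rw [pol_mul_low _ (low_mul (hh p) (hh q)), pol_mul (hh p) (hh q)]

/-- Non-degeneracy is invariant under isomorphism of the quotient algebras. -/
theorem nondeg_of_algEquiv (hN : 0 < N) {g g' : P} (hg : Low g) (hg' : Low g')
    (hn : IsUnit (pol g').det) (e : (P ⧸ Ideal.span {g'}) ≃ₐ[k] (P ⧸ Ideal.span {g})) :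
    IsUnit (pol g).det := by
  classical
  let mk' := Ideal.Quotient.mkₐ k (Ideal.span ({g'} : Set P))
  let mk := Ideal.Quotient.mkₐ k (Ideal.span ({g} : Set P))
  let φ : P →ₐ[k] P ⧸ Ideal.span {g} := e.toAlgHom.comp mk'
  have hφs : Function.Surjective φ := e.surjective.comp Ideal.Quotient.mk_surjective
  have hgm : g ∈ maximalIdeal P := Ideal.pow_le_self two_ne_zero hg.mem
  have hker : ∀ x : P, mk x = 0 → constantCoeff x = 0 := fun x hx => by
    refine GrothLib.QuadSeries.mem_max.1 ?_
    exact (Ideal.span_singleton_le_iff_mem _).2 hgm (Ideal.Quotient.eq_zero_iff_mem.1 hx)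
  have hnu : ∀ x : P, constantCoeff x = 0 → ¬ IsUnit (φ x) := fun x hx hu => by
    have h1 : IsUnit (mk' x) := (MulEquiv.isUnit_map e).1 hu
    obtain ⟨y, hy⟩ := Ideal.Quotient.mk_surjective (↑h1.unit⁻¹ : P ⧸ Ideal.span {g'})
    have h2 : mk' (x * y - 1) = 0 := by
      rw [map_sub, map_mul, map_one]
      show mk' x * Ideal.Quotient.mk _ y - 1 = 0
      rw [hy, IsUnit.mul_val_inv, sub_self]
    have h3 : constantCoeff (x * y - 1) = 0 := GrothLib.QuadSeries.mem_max.1
      ((Ideal.span_singleton_le_iff_mem _).2 (Ideal.pow_le_self two_ne_zero hg'.mem)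
        (Ideal.Quotient.eq_zero_iff_mem.1 h2))
    rw [map_sub, map_mul, hx, zero_mul, map_one, zero_sub, neg_eq_zero] at h3
    exact one_ne_zero h3
  -- lifts with matching constant term
  have hlift : ∀ x : P, ∃ y : P, mk y = φ x ∧ constantCoeff y = constantCoeff x := by
    intro x
    obtain ⟨y, hy⟩ := Ideal.Quotient.mk_surjective (φ x)
    refine ⟨y, hy, ?_⟩
    by_contra hne
    have h1 : constantCoeff (x - C (constantCoeff x)) = 0 := by simp
    refine hnu _ h1 ?_
    have e1 : φ (x - C (constantCoeff x)) = mk (y - C (constantCoeff x)) := by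
      rw [map_sub, map_sub, show mk y = φ x from hy, MvPowerSeries.c_eq_algebraMap, AlgHom.commutes,
        AlgHom.commutes]
    rw [e1]
    refine IsUnit.map _ (MvPowerSeries.isUnit_iff_constantCoeff.2 ?_)
    simpa [isUnit_iff_ne_zero, sub_eq_zero] using hne
  choose h hh hh0 using fun p : Fin N => hlift (X p)
  have hh00 : ∀ p, constantCoeff (h p) = 0 := fun p => by rw [hh0, constantCoeff_X]
  obtain ⟨u, hu⟩ := exists_two_table hg'
  choose v hv hv0 using fun p q : Fin N => hlift (u p q)
  obtain ⟨d, hd⟩ : ∃ d, d * g = ∑ p, ∑ q, v p q * (h p * h q) := by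
    refine Ideal.mem_span_singleton'.1 (Ideal.Quotient.eq_zero_iff_mem.1 ?_)
    show mk _ = 0
    simp only [map_sum, map_mul, hv, hh]
    simp only [← map_mul, ← map_sum, ← hu]
    show e (mk' g') = 0
    rw [show mk' g' = 0 from Ideal.Quotient.eq_zero_iff_mem.2 (Ideal.mem_span_singleton_self _), map_zero]
  let B : Matrix (Fin N) (Fin N) k := fun p i => lc i (h p)
  have hB : B.det ≠ 0 := by
    have hgen : ∀ j : Fin N, ∃ a : Fin N → k, ∀ i, ∑ p, a p * B p i = if i = j then 1 else 0 := by
      intro j
      obtain ⟨x, hx⟩ := hφs (mk (X j))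
      have hx0 : constantCoeff x = 0 := by
        obtain ⟨y, hy, hy0⟩ := hlift x
        have h1 := hker (y - X j) (by rw [map_sub, hy, hx, sub_self])
        rw [map_sub, constantCoeff_X, sub_zero, hy0] at h1
        exact h1
      have hxm : x ∈ Ideal.span (Set.range (X : Fin N → P)) := by
        rw [← GrothLib.QuadSeries.maximalIdeal_eq]; exact GrothLib.QuadSeries.mem_max.2 hx0
      obtain ⟨c, hc⟩ := Ideal.mem_span_range_iff_exists_fun.1 hxm
      choose c' hc' hc0 using fun p => hlift (c p)
      obtain ⟨r, hr⟩ : ∃ r, r * g = X j - ∑ p, c' p * h p := by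
        refine Ideal.mem_span_singleton'.1 (Ideal.Quotient.eq_zero_iff_mem.1 ?_)
        show mk _ = 0
        simp only [map_sub, map_sum, map_mul, hc', hh]
        simp only [← map_mul, ← map_sum, hc, hx, sub_self]
      refine ⟨fun p => constantCoeff (c' p), fun i => ?_⟩
      have h2 := congrArg (lc i) hr
      simp only [lc_mul, hg.1, hg.2, mul_zero, add_zero, lc_sub, lc_sum, hh00, lc_X] at h2
      rw [eq_comm, sub_eq_zero] at h2
      exact h2.symm
    choose A hA using hgen
    have hAB : (Matrix.of A) * B = 1 := by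
      funext j i
      rw [Matrix.mul_apply]
      simp only [Matrix.of_apply]
      rw [hA j i, Matrix.one_apply]
      simp [eq_comm]
    intro h0
    have := congrArg Matrix.det hAB
    simp [Matrix.det_mul, h0] at this
  let U : Matrix (Fin N) (Fin N) k := fun p q => constantCoeff (u p q)
  have hM' : pol g' = U + U.transpose := by
    funext i j
    rw [hu, pol_table u _ (fun p => constantCoeff_X p)]
    simp only [lc_X, Matrix.add_apply, Matrix.transpose_apply, U, mul_add, mul_ite, ite_mul, mul_one,
      mul_zero, one_mul, zero_mul, Finset.sum_add_distrib, Finset.sum_ite_eq, Finset.mem_univ, if_true]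
    congr 1
    rw [Finset.sum_comm]
    simp
  have hM : constantCoeff d • pol g = B.transpose * pol g' * B := by
    funext i j
    rw [hM', Matrix.smul_apply, smul_eq_mul, ← pol_mul_low d hg, hd, pol_table v h hh00]
    simp only [hv0, Matrix.mul_apply, Matrix.transpose_apply, Matrix.add_apply, Finset.sum_mul, mul_add,
      add_mul, Finset.sum_add_distrib]
    congr 1
    · rw [Finset.sum_comm]
      refine Finset.sum_congr rfl fun q _ => Finset.sum_congr rfl fun p _ => ?_
      simp only [U, B]
      ring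
    · refine Finset.sum_congr rfl fun p _ => Finset.sum_congr rfl fun q _ => ?_
      simp only [U, B]
      ring
  have hdet := congrArg Matrix.det hM
  rw [Matrix.det_smul, Matrix.det_mul, Matrix.det_mul, Matrix.det_transpose] at hdet
  rw [isUnit_iff_ne_zero] at hn ⊢
  intro h0
  rw [h0, mul_zero] at hdet
  exact mul_ne_zero (mul_ne_zero hB hn) hB hdet.symm

end GrothLib.JacQuad10
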