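import Mathlib.RingTheory.MvPolynomial.Ideal
import Mathlib.RingTheory.Nullstellensatz
import Mathlib.RingTheory.Filtration
import Mathlib.RingTheory.MvPowerSeries.Equiv
import Mathlib.RingTheory.Localization.Submodule
import Groth.Agent.Lib.ComplAlg.Basic
import Groth.Agent.Lib.JacQuad10.Series

/-!
# The completed local ring of a hypersurface at a rational point
-/

set_option autoImplicit false
set_option linter.all false
set_option backward.isDefEq.respectTransparency false

universe u

open IsLocalRing MvPowerSeries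

namespace GrothLib.JacQuad10

variable {k : Type u} [Field k] {N : ℕ}

local notation "P" => MvPowerSeries (Fin N) k
local notation "A" => MvPolynomial (Fin N) k

/-- Translation. -/
noncomputable def shift (a : Fin N → k) : A →ₐ[k] A :=
  MvPolynomial.aeval fun i => MvPolynomial.X i + MvPolynomial.C (a i)

theorem shift_shift (a b : Fin N → k) (p : A) : shift a (shift b p) = shift (a + b) p := by
  have h : (shift a).comp (shift b) = shift (a + b) := MvPolynomial.algHom_ext fun i => by
    simp [shift, MvPolynomial.algebraMap_eq, add_assoc]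
  exact congrArg (fun f : A →ₐ[k] A => f p) h

theorem shift_zero (p : A) : shift (0 : Fin N → k) p = p := by simp [shift, MvPolynomial.aeval_X_left_apply]

theorem constantCoeff_shift (a : Fin N → k) (p : A) :
    MvPolynomial.constantCoeff (shift a p) = MvPolynomial.eval a p := by
  induction p using MvPolynomial.induction_on with
  | C r => simp [shift]
  | add p q hp hq => simp [hp, hq]
  | mul_X p i hp => simp_all [shift]

theorem pderiv_shift (a : Fin N → k) (i : Fin N) (p : A) :
    MvPolynomial.pderiv i (shift a p) = shift a (MvPolynomial.pderiv i p) := by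
  induction p using MvPolynomial.induction_on with
  | C r => simp [shift]
  | add p q hp hq => simp [hp, hq]
  | mul_X p j hp =>
    simp only [shift] at hp ⊢
    simp only [map_mul, MvPolynomial.aeval_X, MvPolynomial.pderiv_mul, hp, map_add, MvPolynomial.pderiv_C,
      MvPolynomial.pderiv_X, add_zero]
    congr 2
    rcases eq_or_ne i j with h | h <;> simp [h]

/-- Taylor expansion at a point. -/
noncomputable def taylor (a : Fin N → k) : A →+* P :=
  (MvPolynomial.coeToMvPowerSeries.ringHom (σ := Fin N) (R := k)).comp (shift a).toRingHom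

theorem taylor_apply (a : Fin N → k) (p : A) : taylor a p = ((shift a p : A) : P) := rfl

theorem cc_taylor (a : Fin N → k) (p : A) :
    MvPowerSeries.constantCoeff (taylor a p) = MvPolynomial.eval a p := by
  rw [taylor_apply, ← coeff_zero_eq_constantCoeff, MvPolynomial.coeff_coe, ← constantCoeff_shift]
  rfl

theorem pderiv_taylor (a : Fin N → k) (i : Fin N) (p : A) :
    MvPowerSeries.pderiv k i (taylor a p) = taylor a (MvPolynomial.pderiv i p) := by
  rw [taylor_apply, taylor_apply, MvPowerSeries.pderiv_coe, pderiv_shift]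

/-- The ideal of the point. -/
noncomputable def mP (a : Fin N → k) : Ideal A := RingHom.ker (MvPolynomial.eval a)

theorem map_shift_mP (a : Fin N → k) : (mP a).map (shift a).toRingHom = MvPolynomial.idealOfVars (Fin N) k := by
  apply le_antisymm
  · refine Ideal.map_le_iff_le_comap.2 fun p hp => ?_
    show shift a p ∈ MvPolynomial.idealOfVars (Fin N) k
    rw [← pow_one (MvPolynomial.idealOfVars (Fin N) k), MvPolynomial.mem_pow_idealOfVars_iff']
    intro x hx
    obtain rfl : x = 0 := (Finsupp.degree_eq_zero_iff x).1 (by omega)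
    exact (constantCoeff_shift a p).trans hp
  · refine Ideal.span_le.2 ?_
    rintro _ ⟨i, rfl⟩
    have h : shift a (MvPolynomial.X i - MvPolynomial.C (a i)) = MvPolynomial.X i := by simp [shift]
    rw [SetLike.mem_coe, ← h]
    exact Ideal.mem_map_of_mem (shift a).toRingHom (show MvPolynomial.X i - MvPolynomial.C (a i) ∈ mP a by simp [mP])

theorem taylor_mem_pow (a : Fin N → k) (j : ℕ) (p : A) :
    taylor a p ∈ maximalIdeal P ^ j ↔ p ∈ mP a ^ j := by
  constructor
  · intro h
    have h1 : shift a p ∈ MvPolynomial.idealOfVars (Fin N) k ^ j := by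
      rw [MvPolynomial.mem_pow_idealOfVars_iff']
      intro x hx
      have := coeff_of_mem_pow h x hx
      rwa [taylor_apply, MvPolynomial.coeff_coe] at this
    have h2 := Ideal.mem_map_of_mem (shift (-a)).toRingHom h1
    rw [← map_shift_mP a, ← Ideal.map_pow, Ideal.map_map] at h2
    have e : (shift (-a)).toRingHom.comp (shift a).toRingHom = RingHom.id A := RingHom.ext fun q => by
      show shift (-a) (shift a q) = q
      rw [shift_shift, neg_add_cancel, shift_zero]
    rw [e, Ideal.map_id] at h2
    have h3 : shift (-a) (shift a p) = p := by rw [shift_shift, neg_add_cancel, shift_zero]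
    rw [← h3]
    exact h2
  · intro h
    have h1 : (mP a).map (taylor a) ≤ maximalIdeal P := Ideal.map_le_iff_le_comap.2 fun q hq => by
      rw [Ideal.mem_comap, GrothLib.QuadSeries.mem_max, cc_taylor]
      exact hq
    refine Ideal.pow_right_mono h1 j ?_
    rw [← Ideal.map_pow]
    exact Ideal.mem_map_of_mem _ h
where
  coeff_of_mem_pow {j : ℕ} {f : P} (hf : f ∈ maximalIdeal P ^ j) :
      ∀ e : Fin N →₀ ℕ, e.degree < j → coeff e f = 0 := by
    classical
    induction j generalizing f with
    | zero => intro e he; omega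
    | succ j ih =>
      rw [Submodule.pow_succ] at hf
      refine Submodule.mul_induction_on hf (fun a ha b hb => ?_) fun a b ha hb e he => by
        rw [map_add, ha e he, hb e he, add_zero]
      intro e he
      rw [MvPowerSeries.coeff_mul]
      refine Finset.sum_eq_zero fun p hp => ?_
      rw [Finset.HasAntidiagonal.mem_antidiagonal] at hp
      by_cases h0 : p.2 = 0
      · rw [h0, coeff_zero_eq_constantCoeff, GrothLib.QuadSeries.mem_max.mp hb, mul_zero]
      · have h1 : p.2.degree ≠ 0 := fun h => h0 ((Finsupp.degree_eq_zero_iff _).mp h)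
        have h2 : p.1.degree + p.2.degree = e.degree := by rw [← map_add, hp]
        rw [ih ha p.1 (by omega), zero_mul]

theorem exists_approx (a : Fin N → k) (j : ℕ) (f : P) : ∃ p : A, f - taylor a p ∈ maximalIdeal P ^ j := by
  classical
  refine ⟨shift (-a) (truncTotal j f), GrothLib.QuadSeries.mem_max_pow fun d hd => ?_⟩
  rw [map_sub, taylor_apply, shift_shift, add_neg_cancel, shift_zero, MvPolynomial.coeff_coe,
    coeff_truncTotal _ hd, sub_self]

theorem exists_limit (x : ℕ → P) (h : ∀ n, x (n + 1) - x n ∈ maximalIdeal P ^ n) :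
    ∃ l, ∀ n, x n - l ∈ maximalIdeal P ^ n := by
  have hle : ∀ n m, n ≤ m → x m - x n ∈ maximalIdeal P ^ n := by
    intro n m hm
    induction m, hm using Nat.le_induction with
    | base => rw [sub_self]; exact zero_mem _
    | succ m hnm ih =>
      rw [show x (m + 1) - x n = (x (m + 1) - x m) + (x m - x n) by ring]
      exact add_mem (Ideal.pow_le_pow_right hnm (h m)) ih
  refine ⟨(fun d => coeff d (x (d.degree + 1)) : (Fin N →₀ ℕ) → k), fun n =>
    GrothLib.QuadSeries.mem_max_pow fun d hd => ?_⟩
  have h1 : coeff d (x n - x (d.degree + 1)) = 0 :=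
    taylor_mem_pow.coeff_of_mem_pow (hle (d.degree + 1) n hd) d (Nat.lt_succ_self _)
  rw [map_sub] at h1
  rw [map_sub]
  exact h1

theorem exists_lift_seq (g : P) (y : ℕ → P)
    (h : ∀ n, y (n + 1) - y n ∈ Ideal.span {g} ⊔ maximalIdeal P ^ n) :
    ∃ z : ℕ → P, (∀ n, z n - y n ∈ Ideal.span {g}) ∧ ∀ n, z (n + 1) - z n ∈ maximalIdeal P ^ n := by
  choose c hc using fun n => Submodule.mem_sup.1 (h n)
  refine ⟨fun n => y n - ∑ i ∈ Finset.range n, c i, fun n => ?_, fun n => ?_⟩
  · rw [sub_sub_cancel_left]
    exact neg_mem (Ideal.sum_mem _ fun i _ => (hc i).1)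
  · obtain ⟨w, hw, e⟩ := (hc n).2
    simp only [Finset.sum_range_succ]
    rw [show y (n + 1) - (∑ i ∈ Finset.range n, c i + c n) - (y n - ∑ i ∈ Finset.range n, c i) =
      (y (n + 1) - y n) - c n by ring, ← e, add_sub_cancel_left]
    exact hw

/-- The completed local ring. -/
theorem exists_localHom (a : Fin N → k) (f : A) (hf : MvPolynomial.eval a f = 0)
    (Pi : Ideal (A ⧸ Ideal.span {f})) [Pi.IsPrime]
    (hPi : Pi.comap (Ideal.Quotient.mk (Ideal.span {f})) = mP a) :
    ∃ (ρ : Localization.AtPrime Pi →+* P ⧸ Ideal.span {taylor a f}),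
      (∀ p : A, ρ (algebraMap (A ⧸ Ideal.span {f}) _ (Ideal.Quotient.mk _ p)) =
        Ideal.Quotient.mk _ (taylor a p)) ∧
      (∀ n, (maximalIdeal (Localization.AtPrime Pi) ^ n).map ρ =
        (maximalIdeal P ^ n).map (Ideal.Quotient.mk _)) ∧
      (∀ n c, ∃ d, c - ρ d ∈ (maximalIdeal P ^ n).map (Ideal.Quotient.mk _)) ∧
      (∀ n d, ρ d ∈ (maximalIdeal P ^ n).map (Ideal.Quotient.mk _) →
        d ∈ maximalIdeal (Localization.AtPrime Pi) ^ n) := by
  classical
  let g := taylor a f
  let mk := Ideal.Quotient.mk (Ideal.span ({g} : Set P))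
  let mkB := Ideal.Quotient.mk (Ideal.span ({f} : Set A))
  let R := Localization.AtPrime Pi
  let ψ : A ⧸ Ideal.span {f} →+* P ⧸ Ideal.span {g} := Ideal.Quotient.lift _ (mk.comp (taylor a)) (by
    intro x hx
    obtain ⟨c, rfl⟩ := Ideal.mem_span_singleton'.1 hx
    show mk (taylor a (c * f)) = 0
    rw [map_mul]
    exact Ideal.Quotient.eq_zero_iff_mem.2 (Ideal.mem_span_singleton'.2 ⟨_, rfl⟩))
  have hψ : ∀ p, ψ (mkB p) = mk (taylor a p) := fun p => rfl
  have hmem : ∀ p, mkB p ∈ Pi ↔ p ∈ mP a := fun p => by rw [← hPi]; rfl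
  have hunit : ∀ b ∈ Pi.primeCompl, IsUnit (ψ b) := by
    intro b hb
    obtain ⟨p, rfl⟩ := Ideal.Quotient.mk_surjective b
    rw [hψ]
    refine IsUnit.map mk (MvPowerSeries.isUnit_iff_constantCoeff.2 ?_)
    rw [cc_taylor, isUnit_iff_ne_zero]
    exact fun h0 => hb ((hmem p).2 h0)
  let ρ : R →+* P ⧸ Ideal.span {g} := IsLocalization.lift (fun s : Pi.primeCompl => hunit s.1 s.2)
  have hρ : ∀ p, ρ (algebraMap _ R (mkB p)) = mk (taylor a p) := fun p => by
    rw [← hψ]; exact IsLocalization.lift_eq _ _
  have hm : maximalIdeal R = ((mP a).map mkB).map (algebraMap _ R) := by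
    rw [← Localization.AtPrime.map_eq_maximalIdeal, ← hPi,
      Ideal.map_comap_of_surjective _ Ideal.Quotient.mk_surjective]
  have hmt : (mP a).map (taylor a) = maximalIdeal P := by
    rw [GrothLib.QuadSeries.maximalIdeal_eq, taylor, ← Ideal.map_map, map_shift_mP, MvPolynomial.idealOfVars,
      Ideal.map_span]
    congr 1
    ext y
    simp [Set.range, Set.image]
  have hpow : ∀ n, (maximalIdeal R ^ n).map ρ = (maximalIdeal P ^ n).map mk := fun n => by
    rw [Ideal.map_pow, Ideal.map_pow, hm, Ideal.map_map, Ideal.map_map, ← hmt, Ideal.map_map]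
    congr 2
    exact RingHom.ext hρ
  refine ⟨ρ, hρ, hpow, fun n c => ?_, fun n d hd => ?_⟩
  · obtain ⟨y, rfl⟩ := Ideal.Quotient.mk_surjective c
    obtain ⟨p, hp⟩ := exists_approx a n y
    refine ⟨algebraMap _ R (mkB p), ?_⟩
    rw [hρ, ← map_sub]
    exact Ideal.mem_map_of_mem mk hp
  · obtain ⟨⟨b, s⟩, hbs⟩ := IsLocalization.surj Pi.primeCompl d
    obtain ⟨p, rfl⟩ := Ideal.Quotient.mk_surjective b
    have h1 : mk (taylor a p) ∈ (maximalIdeal P ^ n).map mk := by
      rw [← hρ, ← hbs, map_mul]
      exact Ideal.mul_mem_right _ _ hd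
    obtain ⟨w, hw, hwe⟩ := (Ideal.mem_map_iff_of_surjective mk Ideal.Quotient.mk_surjective).1 h1
    obtain ⟨c, hc⟩ := Ideal.mem_span_singleton'.1 (Ideal.Quotient.eq.1 hwe)
    obtain ⟨c', hc'⟩ := exists_approx a n c
    have h2 : taylor a (p + c' * f) ∈ maximalIdeal P ^ n := by
      have e : taylor a (p + c' * f) = w - (c - taylor a c') * g := by
        rw [map_add, map_mul]; linear_combination hc
      rw [e]
      exact sub_mem hw (Ideal.mul_mem_right _ _ hc')
    rw [taylor_mem_pow] at h2
    have h3 : algebraMap _ R (mkB (p + c' * f)) ∈ maximalIdeal R ^ n := by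
      rw [hm, ← Ideal.map_pow, ← Ideal.map_pow]
      exact Ideal.mem_map_of_mem _ (Ideal.mem_map_of_mem _ h2)
    have h4 : mkB (c' * f) = 0 := Ideal.Quotient.eq_zero_iff_mem.2 (Ideal.mem_span_singleton'.2 ⟨c', rfl⟩)
    rw [map_add, h4, add_zero, ← hbs] at h3
    exact (Ideal.mul_unit_mem_iff_mem _ (IsLocalization.map_units R s)).1 h3

theorem le_of_le_sup_sq {R : Type u} [CommRing R] [IsLocalRing R] [IsNoetherianRing R] (J : Ideal R)
    (h : maximalIdeal R ≤ J ⊔ maximalIdeal R ^ 2) : maximalIdeal R ≤ J :=
  Submodule.le_of_le_smul_of_le_jacobson_bot (IsNoetherian.noetherian _)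
    (IsLocalRing.maximalIdeal_le_jacobson _) (by rwa [smul_eq_mul, ← sq])

/-- Nakayama form of the Jacobian condition, and the completion. -/
theorem jacobian_iff (hN : 0 < N) (a : Fin N → k) (f : A) (hf : MvPolynomial.eval a f = 0)
    (hd : ∀ i, MvPolynomial.eval a (MvPolynomial.pderiv i f) = 0)
    (Pi : Ideal (A ⧸ Ideal.span {f})) [Pi.IsPrime]
    (hPi : Pi.comap (Ideal.Quotient.mk (Ideal.span {f})) = mP a) :
    (Ideal.map (algebraMap (A ⧸ Ideal.span {f}) (Localization.AtPrime Pi))
        (Ideal.span (Set.range fun i => Ideal.Quotient.mk (Ideal.span {f}) (MvPolynomial.pderiv i f))) =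
      maximalIdeal (Localization.AtPrime Pi) ↔ IsUnit (pol (taylor a f)).det) ∧
    Nonempty (AdicCompletion (R := Localization.AtPrime Pi) (maximalIdeal (Localization.AtPrime Pi)) (Localization.AtPrime Pi) ≃ₐ[k]
      (P ⧸ Ideal.span {taylor a f})) ∧ Low (taylor a f) := by
  classical
  obtain ⟨ρ, hρ, hpow, hsur, hinj⟩ := exists_localHom a f hf Pi hPi
  have hlow : Low (taylor a f) := ⟨by rw [cc_taylor, hf], fun i => by
    rw [← cc_pderiv, pderiv_taylor, cc_taylor, hd]⟩
  refine ⟨?_, ?_, hlow⟩
  · let g := taylor a f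
    let R := Localization.AtPrime Pi
    let mk := Ideal.Quotient.mk (Ideal.span ({g} : Set P))
    let mkB := Ideal.Quotient.mk (Ideal.span ({f} : Set A))
    let D : Fin N → R := fun i => algebraMap _ R (mkB (MvPolynomial.pderiv i f))
    have hD : ∀ i, ρ (D i) = mk (pderiv k i g) := fun i => by rw [pderiv_taylor]; exact hρ _
    have hJ : Ideal.map (algebraMap (A ⧸ Ideal.span {f}) R)
        (Ideal.span (Set.range fun i => mkB (MvPolynomial.pderiv i f))) = Ideal.span (Set.range D) := by
      rw [Ideal.map_span, ← Set.range_comp]; rfl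
    show Ideal.map (algebraMap (A ⧸ Ideal.span {f}) R)
        (Ideal.span (Set.range fun i => mkB (MvPolynomial.pderiv i f))) = maximalIdeal R ↔ _
    rw [hJ]
    constructor
    · intro hJe
      -- the linear forms of the partial derivatives span
      have key : ∀ j : Fin N, ∃ c : Fin N → k, ∀ i, ∑ l, c l * pol g l i = if i = j then 1 else 0 := by
        intro j
        have h1 : mk (X j) ∈ (maximalIdeal P ^ 1).map mk :=
          Ideal.mem_map_of_mem _ (by rw [pow_one]; exact GrothLib.QuadSeries.mem_max.2 (constantCoeff_X j))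
        rw [← hpow, pow_one, ← hJe, Ideal.map_span, ← Set.range_comp] at h1
        obtain ⟨c, hc⟩ := Ideal.mem_span_range_iff_exists_fun.1 h1
        choose c' hc' using fun l => Ideal.Quotient.mk_surjective (c l)
        obtain ⟨r, hr⟩ : ∃ r, r * g = X j - ∑ l, c' l * pderiv k l g := by
          refine Ideal.mem_span_singleton'.1 (Ideal.Quotient.eq_zero_iff_mem.1 ?_)
          show mk _ = 0
          simp only [map_sub, map_sum, map_mul, mk, hc', ← hc]
          simp only [Function.comp_apply, hD, sub_self, mk]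
        refine ⟨fun l => constantCoeff (c' l), fun i => ?_⟩
        have h2 := congrArg (lc i) hr
        simp only [lc_mul, hlow.1, hlow.2, g, mul_zero, add_zero, lc_sub, lc_sum, lc_X, cc_pderiv] at h2
        rw [eq_comm, sub_eq_zero] at h2
        exact h2.symm
      choose C hC using key
      have hCM : (Matrix.of C) * pol g = 1 := by
        funext j i
        rw [Matrix.mul_apply]
        simp only [Matrix.of_apply]
        rw [hC j i, Matrix.one_apply]
        simp [eq_comm]
      rw [isUnit_iff_ne_zero]
      intro h0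
      have := congrArg Matrix.det hCM
      rw [Matrix.det_mul, show (pol g).det = 0 from h0, mul_zero, Matrix.det_one] at this
      exact zero_ne_one this
    · intro hn
      have hspan : Ideal.span (Set.range fun i => pderiv k i g) ⊔ maximalIdeal P ^ 2 = maximalIdeal P := by
        refine le_antisymm (sup_le (Ideal.span_le.2 ?_) (Ideal.pow_le_self two_ne_zero)) ?_
        · rintro _ ⟨i, rfl⟩
          exact GrothLib.QuadSeries.mem_max.2 ((cc_pderiv i g).trans (hlow.2 i))
        · conv_lhs => rw [GrothLib.QuadSeries.maximalIdeal_eq]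
          refine Ideal.span_le.2 ?_
          rintro _ ⟨l, rfl⟩
          let L : Fin N → P := fun i => ∑ j, MvPowerSeries.C (pol g i j) * X j
          have hL : ∀ i, L i ∈ Ideal.span (Set.range fun i => pderiv k i g) ⊔ maximalIdeal P ^ 2 := fun i => by
            have h := GrothLib.QuadSeries.sub_linear_mem_sq ((cc_pderiv i g).trans (hlow.2 i))
            rw [show L i = pderiv k i g - (pderiv k i g - L i) by abel]
            exact sub_mem (Ideal.mem_sup_left (Ideal.subset_span ⟨i, rfl⟩)) (Ideal.mem_sup_right h)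
          have hX : (X l : P) = ∑ i, MvPowerSeries.C ((pol g)⁻¹ l i) * L i := by
            simp only [L, Finset.mul_sum, ← mul_assoc, ← map_mul]
            rw [Finset.sum_comm]
            simp only [← Finset.sum_mul, ← map_sum, ← Matrix.mul_apply]
            rw [Matrix.nonsing_inv_mul _ hn]
            simp [Matrix.one_apply, apply_ite (MvPowerSeries.C (σ := Fin N) (R := k)), ite_mul]
          rw [SetLike.mem_coe, hX]
          exact Ideal.sum_mem _ fun i _ => Ideal.mul_mem_left _ _ (hL i)
      have hle : Ideal.span (Set.range D) ≤ maximalIdeal R := by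
        refine Ideal.span_le.2 ?_
        rintro _ ⟨i, rfl⟩
        rw [SetLike.mem_coe, ← pow_one (maximalIdeal R)]
        refine hinj 1 _ ?_
        rw [hD, pow_one]
        exact Ideal.mem_map_of_mem _ (GrothLib.QuadSeries.mem_max.2 ((cc_pderiv i g).trans (hlow.2 i)))
      haveI : IsNoetherianRing R := IsLocalization.isNoetherianRing Pi.primeCompl R inferInstance
      refine le_antisymm hle (le_of_le_sup_sq (R := R) (Ideal.span (Set.range D)) ?_)
      intro x hx
      have h1 : ρ x ∈ ((Ideal.span (Set.range D)).map ρ) ⊔ (maximalIdeal P ^ 2).map mk := by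
        have : ρ x ∈ (maximalIdeal R ^ 1).map ρ := Ideal.mem_map_of_mem ρ (by rwa [pow_one])
        rw [hpow, pow_one, ← hspan, Ideal.map_sup, Ideal.map_span, ← Set.range_comp] at this
        rw [Ideal.map_span, ← Set.range_comp]
        convert this using 5
        funext i
        exact hD i
      obtain ⟨y, hy, z, hz, hyz⟩ := Submodule.mem_sup.1 h1
      rw [Ideal.map_span, ← Set.range_comp] at hy
      obtain ⟨c, rfl⟩ := Ideal.mem_span_range_iff_exists_fun.1 hy
      choose c' hc' using fun i => hsur 1 (c i)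
      refine Submodule.mem_sup.2 ⟨∑ i, c' i * D i, Ideal.sum_mem _ fun i _ =>
        Ideal.mul_mem_left _ _ (Ideal.subset_span ⟨i, rfl⟩), x - ∑ i, c' i * D i, hinj 2 _ ?_, by abel⟩
      rw [map_sub, map_sum, ← hyz, show (∑ i, c i * (ρ ∘ D) i) + z - ∑ i, ρ (c' i * D i) =
        (∑ i, (c i - ρ (c' i)) * ρ (D i)) + z by
          simp only [map_mul, sub_mul, Finset.sum_sub_distrib, Function.comp_apply]; ring]
      refine add_mem (Ideal.sum_mem _ fun i _ => ?_) hz
      rw [show (2 : ℕ) = 1 + 1 from rfl, pow_add, Ideal.map_mul]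
      refine Ideal.mul_mem_mul (hc' i) ?_
      rw [hD, pow_one]
      exact Ideal.mem_map_of_mem _ (GrothLib.QuadSeries.mem_max.2 ((cc_pderiv i g).trans (hlow.2 i)))
  · let g := taylor a f
    let mk := Ideal.Quotient.mk (Ideal.span ({g} : Set P))
    have hgm : g ∈ maximalIdeal P := GrothLib.QuadSeries.mem_max.2 hlow.1
    haveI : Nontrivial (P ⧸ Ideal.span {g}) := Ideal.Quotient.nontrivial_iff.2
      (ne_top_of_le_ne_top (maximalIdeal.isMaximal P).ne_top ((Ideal.span_singleton_le_iff_mem _).2 hgm))
    haveI : IsLocalRing (P ⧸ Ideal.span {g}) := IsLocalRing.of_surjective' mk Ideal.Quotient.mk_surjective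
    haveI : IsNoetherianRing P := MvPowerSeries.isNoetherianRing k
    obtain ⟨e, he⟩ := GrothLib.ComplAlg.exists_equiv_adicCompletion ρ (maximalIdeal (Localization.AtPrime Pi))
      (fun n c => by obtain ⟨d, hd⟩ := hsur n c; exact ⟨d, by rw [hpow]; exact hd⟩)
      (fun n d hd => hinj n d (by rw [← hpow]; exact hd))
      (fun c hc => by
        have hmax : ((maximalIdeal P).map mk) ≠ ⊤ := by
          intro ht
          have := congrArg (Ideal.comap mk) ht
          rw [Ideal.comap_map_of_surjective mk Ideal.Quotient.mk_surjective, Ideal.comap_top,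
            ← RingHom.ker_eq_comap_bot, Ideal.mk_ker, sup_eq_left.2 ((Ideal.span_singleton_le_iff_mem _).2 hgm)] at this
          exact (maximalIdeal.isMaximal P).ne_top this
        have h1 : c ∈ ⨅ n, ((maximalIdeal P).map mk) ^ n := by
          rw [Submodule.mem_iInf]
          intro n
          rw [← Ideal.map_pow, ← hpow]
          exact hc n
        rw [Ideal.iInf_pow_eq_bot_of_isLocalRing _ hmax] at h1
        exact (Submodule.mem_bot _).1 h1)
      (fun x hx => by
        choose y hy using fun n => Ideal.Quotient.mk_surjective (x n)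
        have hy' : ∀ n, y (n + 1) - y n ∈ Ideal.span {g} ⊔ maximalIdeal P ^ n := fun n => by
          have := hx n
          rw [hpow, ← hy, ← hy, ← map_sub] at this
          have h2 : y (n + 1) - y n ∈ ((maximalIdeal P ^ n).map mk).comap mk := this
          rw [Ideal.comap_map_of_surjective mk Ideal.Quotient.mk_surjective, ← RingHom.ker_eq_comap_bot,
            Ideal.mk_ker, sup_comm] at h2
          exact h2
        obtain ⟨z, hz, hz'⟩ := exists_lift_seq g y hy'
        obtain ⟨l, hl⟩ := exists_limit z hz'
        refine ⟨mk l, fun n => ?_⟩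
        rw [hpow, ← hy, show mk (y n) = mk (z n) from (Ideal.Quotient.eq.2 (hz n)).symm, ← map_sub]
        exact Ideal.mem_map_of_mem _ (hl n))
    refine ⟨AlgEquiv.ofRingEquiv (f := e.symm) fun r => ?_⟩
    rw [RingEquiv.symm_apply_eq]
    refine Eq.trans ?_ (congrArg e (show ρ (algebraMap k (Localization.AtPrime Pi) r) = algebraMap k _ r from ?_))
    · exact (he _).symm
    rw [IsScalarTower.algebraMap_apply k (A ⧸ Ideal.span {f}) (Localization.AtPrime Pi),
      IsScalarTower.algebraMap_apply k A (A ⧸ Ideal.span {f}), Ideal.Quotient.algebraMap_eq,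
      MvPolynomial.algebraMap_eq, hρ, IsScalarTower.algebraMap_apply k P (P ⧸ Ideal.span {taylor a f}),
      Ideal.Quotient.algebraMap_eq]
    congr 1
    simp [taylor_apply, shift, MvPowerSeries.c_eq_algebraMap]

end GrothLib.JacQuad10
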